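import Groth.Agent.QCohBase.Push
import Groth.Agent.QCohBase.Union
import Mathlib.Topology.Sheaves.Flasque

/-!
# Flasque sheaves are acyclic
-/

noncomputable section

universe u

open CategoryTheory Limits TopologicalSpace Opposite

namespace Groth.Agent.FlasqueAcyclic

open QCohBase TopCat.Sheaf

variable {X Y : TopCat.{u}}

lemma isFlasque_of_injective (I : AbSheaf X) [Injective I] : IsFlasque I :=
  ⟨fun {_ _} i => (AddCommGrpCat.epi_iff_surjective _).2
    (injective_res_surjective I i.unop.le)⟩

lemma sections_surjective_of_isFlasque {T : ShortComplex (AbSheaf X)} (hT : T.ShortExact)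
    [IsFlasque T.X₁] (U : Opens X) : Function.Surjective (T.g.hom.app (op U)) :=
  (AddCommGrpCat.epi_iff_surjective _).1 (IsFlasque.epi_of_shortExact hT)

lemma isFlasque_cokernel {T : ShortComplex (AbSheaf X)} (hT : T.ShortExact) [IsFlasque T.X₁]
    [Injective T.X₂] : IsFlasque T.X₃ :=
  haveI := isFlasque_of_injective T.X₂
  IsFlasque.of_shortExact_of_isFlasque₁₂ hT

/-- The Cech complexes of a flasque sheaf are exact in positive degrees. -/
theorem cechAcyclic_of_isFlasque {ι : Type u} (V : ι → Opens X) (F : AbSheaf X) [IsFlasque F] :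
    CechAcyclic V F.obj := by
  intro p
  induction p generalizing F with
  | zero =>
    have hT := CovSystem.injSeq_shortExact F
    haveI : IsFlasque (CovSystem.injSeq F).X₁ := ‹IsFlasque F›
    have := hT.mono_f
    rw [exactAt_succ_iff]
    intro c hc
    let T := CovSystem.injSeq F
    obtain ⟨b, hb⟩ := (exactAt_succ_iff V T.X₂.obj 0).1 (cechAcyclic_of_injective V T.X₂ 0)
      (fun i => T.f.hom.app _ (c i)) (by
        rw [dCech_map V T.f.hom 1 c, hc]
        funext i
        exact map_zero _)
    have hgf : ∀ {W : Opens X} (z : T.X₁.obj.obj (op W)),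
        T.g.hom.app _ (T.f.hom.app _ z) = 0 := fun z => by
      rw [← ConcreteCategory.comp_apply, ← NatTrans.comp_app,
        ← ObjectProperty.FullSubcategory.comp_hom, T.zero]
      rfl
    have hgb : dCech V T.X₃.obj 0 (fun i => T.g.hom.app _ (b i)) = 0 := by
      rw [dCech_map V T.g.hom 0 b, hb]
      funext i
      exact hgf _
    obtain ⟨v, hv⟩ := cocycle_zero_glue V T.X₃ (U := ⨆ k, V k) rfl _ hgb
    obtain ⟨w, hw⟩ := sections_surjective_of_isFlasque hT _ v
    have hle : ∀ i : Fin 1 → ι, inter V i ≤ ⨆ k, V k := fun i =>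
      (iInf_le _ 0).trans (le_iSup V (i 0))
    have hk : ∀ i : Fin 1 → ι, T.g.hom.app _ (b i - res T.X₂.obj (hle i) w) = 0 := fun i => by
      rw [map_sub, ← nat_res T.X₂.obj T.g.hom, hw, hv i (hle i), sub_self]
    choose a ha using fun i =>
      TopCat.Sheaf.sections_exact_of_left_exact hT.exact hT.mono_f _ (hk i)
    refine ⟨a, ?_⟩
    funext i
    apply CovSystem.app_injective_of_mono T.f
    rw [← congrFun (dCech_map V T.f.hom 0 a) i, dCech_zero_apply, ha, ha, map_sub, map_sub,
      res_res, res_res, ← congrFun hb i, dCech_zero_apply]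
    abel
  | succ p ih =>
    have hT := CovSystem.injSeq_shortExact F
    haveI : IsFlasque (CovSystem.injSeq F).X₁ := ‹IsFlasque F›
    have := hT.mono_f
    haveI := isFlasque_cokernel hT
    let T := CovSystem.injSeq F
    have hC : (T.map (cechSheafFunctor V)).ShortExact :=
      HomologicalComplex.shortExact_of_degreewise_shortExact _ fun n =>
        { exact := by
            rw [ShortComplex.ab_exact_iff]
            intro s hs
            choose t ht using fun i : Fin (n + 1) → ι =>
              TopCat.Sheaf.sections_exact_of_left_exact hT.exact hT.mono_f _ (congrFun hs i)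
            exact ⟨t, funext ht⟩
          mono_f := (AddCommGrpCat.mono_iff_injective _).2 fun a b h =>
            funext fun i => CovSystem.app_injective_of_mono T.f _ (congrFun h i)
          epi_g := (AddCommGrpCat.epi_iff_surjective _).2 fun s => by
            choose t ht using fun i => sections_surjective_of_isFlasque hT _ (s i)
            exact ⟨t, funext ht⟩ }
    rw [HomologicalComplex.exactAt_iff_isZero_homology]
    refine (hC.homology_exact₁ (p + 1) (p + 2) rfl).isZero_of_both_zeros ?_ ?_
    · exact ((HomologicalComplex.exactAt_iff_isZero_homology _ _).1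
        (ih T.X₃)).eq_zero_of_src _
    · exact ((HomologicalComplex.exactAt_iff_isZero_homology _ _).1
        (cechAcyclic_of_injective V T.X₂ (p + 1))).eq_zero_of_tgt _

lemma acyclic_of_isFlasque (S : CovSystem X) (F : AbSheaf X) [IsFlasque F] : S.Acyclic F :=
  fun {_ _ _} _ _ => cechAcyclic_of_isFlasque _ F

/-- Flasque sheaves have no higher cohomology. -/
theorem subsingleton_H_of_isFlasque (F : AbSheaf X) [IsFlasque F] (n : ℕ) :
    Subsingleton (CovSystem.HTop F (n + 1)) :=
  CovSystem.subsingleton_H (S := CovSystem.univ X) trivial (acyclic_of_isFlasque _ F) n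

/-- Flasque sheaves have no higher direct images. -/
theorem isZero_rightDerived_push_of_isFlasque (f : X ⟶ Y) (F : AbSheaf X) [IsFlasque F] (n : ℕ) :
    IsZero (((pushSh f).rightDerived (n + 1)).obj F) :=
  CovSystem.isZero_rightDerived_push (S := CovSystem.univ X) f Set.univ
    (Opens.isBasis_iff_nbhd.2 fun {U _} hx => ⟨U, trivial, hx, le_rfl⟩) (fun _ _ => trivial) (acyclic_of_isFlasque _ F) n

end Groth.Agent.FlasqueAcyclic
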