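import Mathlib.AlgebraicGeometry.Modules.Sheaf
import Mathlib.Algebra.Category.ModuleCat.Presheaf.Generator
import Mathlib.Algebra.Category.ModuleCat.Presheaf.Sheafification
import Mathlib.CategoryTheory.Preadditive.Injective.Basic
import Mathlib.Topology.Sheaves.Flasque
import Groth.Prelude.Def_Coh

/-!
# Injective modules are flasque
-/

noncomputable section

universe u

open CategoryTheory Limits Opposite AlgebraicGeometry TopologicalSpace

namespace Groth.Agent.FlasqueAcyclic

section

variable {C : Type u} [SmallCategory C] {R : Cᵒᵖ ⥤ RingCat.{u}}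

/-- Restriction along a monomorphism is surjective for an injective presheaf of modules. -/
lemma map_surjective_of_injective (M : PresheafOfModules.{u} R) [Injective M] {V W : C}
    (i : W ⟶ V) [Mono i] : Function.Surjective (M.presheaf.map i.op) := by
  intro s
  let φ := (PresheafOfModules.free R).map (yoneda.map i)
  haveI : Mono φ := PresheafOfModules.mono_of_injective fun Z => by
    intro a b h
    exact Finsupp.mapDomain_injective (fun g g' hg => (cancel_mono i).1 hg) h
  let ψ := Injective.factorThru ((PresheafOfModules.freeYonedaEquiv (M := M) (X := W)).symm s) φ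
  have hψ : φ ≫ ψ = (PresheafOfModules.freeYonedaEquiv (M := M) (X := W)).symm s :=
    Injective.comp_factorThru _ _
  refine ⟨PresheafOfModules.freeYonedaEquiv ψ, ?_⟩
  have h := congrArg PresheafOfModules.freeYonedaEquiv hψ
  rw [Equiv.apply_symm_apply] at h
  refine Eq.trans ?_ h
  change (M.map i.op).hom (ψ.app (op V) (ModuleCat.freeMk (𝟙 V))) =
    ψ.app (op W) (φ.app (op W) (ModuleCat.freeMk (𝟙 W)))
  rw [← PresheafOfModules.naturality_apply]
  congr 1
  simp [φ, PresheafOfModules.free]
  erw [ModuleCat.freeDesc_apply, ModuleCat.free_map_apply]
  exact congrArg ModuleCat.freeMk ((Category.comp_id i).trans (Category.id_comp i).symm)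

end

lemma injective_val {C : Type u} [SmallCategory C] {J : GrothendieckTopology C}
    {R : Sheaf J RingCat.{u}} (I : SheafOfModules.{u} R) (hI : Injective I) : Injective I.val :=
  (PresheafOfModules.sheafificationAdjunction.{u} (𝟙 R.obj)).map_injective I hI

/-- The underlying abelian sheaf of an injective module is flasque. -/
theorem isFlasque_toAb {X : Scheme.{u}} (I : X.Modules) [Injective I] :
    TopCat.Sheaf.IsFlasque (X := X.toTopCat) (Coh.toAb I) where
  epi {U V} i := by
    haveI := injective_val (R := X.ringCatSheaf) I ‹Injective I›
    exact (AddCommGrpCat.epi_iff_surjective _).2 (map_surjective_of_injective I.val i.unop)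

end Groth.Agent.FlasqueAcyclic
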