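import Groth.Agent.FlasqueAcyclic.Cech
import Groth.Agent.FlasqueAcyclic.InjectiveModule
import Groth.Agent.RDerLES.LES
import Groth.Agent.UnivDelta.Basic
import Groth.Agent.SiteBase.ModColimits
import Mathlib.Algebra.Category.ModuleCat.Sheaf.Limits

/-!
# Higher direct images of modules and of abelian sheaves agree
-/

noncomputable section

universe v₁ u₁ v₂ u₂ v₃ u₃ u

open CategoryTheory Limits Opposite AlgebraicGeometry TopologicalSpace

namespace Groth.Agent.FlasqueAcyclic

section

variable {A : Type u₁} [Category.{v₁} A] [Abelian A] {B : Type u₂} [Category.{v₂} B] [Abelian B]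
  [HasInjectiveResolutions B] {D : Type u₃} [Category.{v₃} D] [Abelian D]
  (H : A ⥤ B) [H.Additive] [PreservesFiniteLimits H] [PreservesFiniteColimits H]
  (F : B ⥤ D) [F.Additive] [PreservesFiniteLimits F]

/-- Right derived functors precomposed with an exact functor, as an effaceable delta-functor. -/
def compDelta (hI : ∀ (J : A), Injective J → ∀ n : ℕ, IsZero ((F.rightDerived (n + 1)).obj (H.obj J))) :
    UnivDelta.DeltaFunctor A D where
  F n := H ⋙ F.rightDerived n
  additive _ := inferInstance
  δ {S} hS n := (RDerLES.derivedLES F).δ (S.map H) (hS.map_of_exact H) n (n + 1) rfl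
  mono₁ {S} hS := by
    haveI := (hS.map_of_exact H).mono_f
    haveI : Mono (H.map S.f) := this
    haveI : PreservesFiniteLimits (F.rightDerived 0) :=
      preservesFiniteLimits_of_natIso F.rightDerivedZeroIsoSelf.symm
    exact inferInstanceAs (Mono ((F.rightDerived 0).map (H.map S.f)))
  exact₂ {S} hS n _ := (RDerLES.derivedLES F).exact₂ (S.map H) (hS.map_of_exact H) n
  map_g_δ {S} hS n := (RDerLES.derivedLES F).comp_δ (S.map H) (hS.map_of_exact H) n (n + 1) rfl
  exact₃ {S} hS n := (RDerLES.derivedLES F).exact₃ (S.map H) (hS.map_of_exact H) n (n + 1) rfl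
  δ_map_f {S} hS n := (RDerLES.derivedLES F).δ_comp (S.map H) (hS.map_of_exact H) n (n + 1) rfl
  exact₁ {S} hS n := (RDerLES.derivedLES F).exact₁ (S.map H) (hS.map_of_exact H) n (n + 1) rfl
  δ_nat {S S'} hS hS' φ n :=
    (RDerLES.derivedLES F).δ_natural (hS.map_of_exact H) (hS'.map_of_exact H)
      (H.mapShortComplex.map φ) n (n + 1) rfl
  isZero J hJ n := hI J hJ n

variable {G : A ⥤ D} [G.Additive]

/-- `R^n F ∘ H` computed by an injective resolution in the source. -/
lemma nonempty_homology_iso
    (hI : ∀ (J : A), Injective J → ∀ n : ℕ, IsZero ((F.rightDerived (n + 1)).obj (H.obj J)))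
    (e : H ⋙ F ≅ G) {M : A} (I : InjectiveResolution M) (n : ℕ) :
    Nonempty ((F.rightDerived n).obj (H.obj M) ≅
      ((G.mapHomologicalComplex _).obj I.cocomplex).homology n) := by
  cases n with
  | zero =>
    have hlim : PreservesFiniteLimits G := preservesFiniteLimits_of_natIso e
    let k := (KernelFork.mapIsLimit _ I.isLimitKernelFork G).conePointUniqueUpToIso
      (UnivDelta.cycIsKernel ((G.mapHomologicalComplex _).obj I.cocomplex) 0)
    exact ⟨(F.rightDerivedZeroIsoSelf.app (H.obj M)) ≪≫ e.app M ≪≫ k ≪≫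
      CochainComplex.isoHomologyπ₀ _⟩
  | succ n =>
    let T := compDelta H F hI
    haveI : (T.F 0).Additive := T.additive 0
    let e' : T.F 0 ≅ G := Functor.isoWhiskerLeft H F.rightDerivedZeroIsoSelf ≪≫ e
    exact ⟨UnivDelta.objIso T I n ≪≫ (HomologicalComplex.homologyFunctor D _ (n + 1)).mapIso
      ((NatIso.mapHomologicalComplex e' _).app I.cocomplex)⟩

end

section

variable {A : Type u₁} [Category.{v₁} A] [Abelian A] [HasInjectiveResolutions A]
  {B : Type u₂} [Category.{v₂} B] [Abelian B] {D : Type u₃} [Category.{v₃} D] [Abelian D]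
  (P : A ⥤ B) [P.Additive] (K : B ⥤ D) [K.Additive] [PreservesFiniteLimits K]
  [PreservesFiniteColimits K]

/-- Exact functors commute with the homology computing right derived functors. -/
def mapRightDerivedIso {M : A} (I : InjectiveResolution M) (n : ℕ) :
    K.obj ((P.rightDerived n).obj M) ≅
      (((P ⋙ K).mapHomologicalComplex _).obj I.cocomplex).homology n :=
  K.mapIso (I.isoRightDerivedObj P n) ≪≫
    ((((P.mapHomologicalComplex _).obj I.cocomplex).sc n).mapHomologyIso K).symm

end

/-- The underlying abelian sheaf functor on the category of modules of a scheme. -/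
def toAbF (X : Scheme.{u}) :
    X.Modules ⥤ CategoryTheory.Sheaf (Opens.grothendieckTopology X) AddCommGrpCat.{u} :=
  SheafOfModules.toSheaf X.ringCatSheaf

instance (X : Scheme.{u}) : (toAbF X).Additive := ⟨rfl⟩

instance (X : Scheme.{u}) : PreservesFiniteLimits (toAbF X) :=
  inferInstanceAs (PreservesFiniteLimits (SheafOfModules.toSheaf X.ringCatSheaf))

instance (X : Scheme.{u}) : PreservesFiniteColimits (toAbF X) :=
  inferInstanceAs (PreservesFiniteColimits (SheafOfModules.toSheaf X.ringCatSheaf))

variable {X Y : Scheme.{u}} (f : X ⟶ Y)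

lemma isZero_RpushAb_injective (J : X.Modules) (hJ : Injective J) (n : ℕ) :
    IsZero ((Coh.RpushAb f (n + 1)).obj (Coh.toAb J)) :=
  haveI := @isFlasque_toAb X J hJ
  isZero_rightDerived_push_of_isFlasque f.base (Coh.toAb J) n

/-- `R^n f_*` of modules and of abelian sheaves agree. -/
theorem nonempty_toAb_Rpush_iso [HasInjectiveResolutions X.Modules] (M : X.Modules) (n : ℕ) :
    Nonempty (Coh.toAb ((Coh.Rpush f n).obj M) ≅ (Coh.RpushAb f n).obj (Coh.toAb M)) := by
  haveI : PreservesFiniteLimits (Coh.pushAb f) :=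
    inferInstanceAs (PreservesFiniteLimits (QCohBase.pushSh f.base))
  obtain ⟨e⟩ := nonempty_homology_iso (toAbF X) (Coh.pushAb f)
    (fun J hJ n => isZero_RpushAb_injective f J hJ n)
    (G := Coh.push f ⋙ toAbF Y) (Iso.refl _)
    (injectiveResolution M) n
  exact ⟨mapRightDerivedIso (Coh.push f) (toAbF Y)
    (injectiveResolution M) n ≪≫ e.symm⟩

end Groth.Agent.FlasqueAcyclic
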